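import Groth.Agent.Neron.K925.Loc
import Groth.Agent.PicF.K247.QcZero

/-!
# The point of a `Pic⁰` class lies in the connected component of the origin
-/

set_option autoImplicit false
universe u
open CategoryTheory CategoryTheory.Limits AlgebraicGeometry Opposite TopologicalSpace

namespace K925.Loc

open Groth.Agent Groth.Agent.Grpsch Groth.Agent.Grpsch.PicGrp Groth.Agent.Fga.RigGrp K530.PicZero K732.Cov
  K247.QcZero Groth.Agent.Pic13.H138.AlgEquiv

variable {K : Type u} [Field K] {X : Scheme.{u}} {f : X ⟶ Spec (CommRingCat.of K)}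
  {P : Over (Spec (CommRingCat.of K))}
  {φ : ∀ T : Over (Spec (CommRingCat.of K)), PicF.Cl (PicF.XT f T) → (T ⟶ P)}

theorem mem_alg0_of_fibZero {Ω : Type u} [Field Ω] [IsAlgClosed Ω]
    (b : Spec (CommRingCat.of Ω) ⟶ Spec (CommRingCat.of K)) (c : Pic (PicF.XT f (Over.mk b)))
    (hc : FibZero (PicF.XTproj f (Over.mk b)) c) : c ∈ @alg0 Ω _ (pullback f b) ⟨pullback.snd f b⟩ _ := by
  have h1 := hc Ω (𝟙 _)
  let p : pullback f b ⟶ pullback (PicF.XTproj f (Over.mk b)) (𝟙 (Over.mk b).left) :=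
    pullback.lift (𝟙 _) (pullback.snd f b) (by
      rw [Category.id_comp]
      exact (Category.comp_id _).symm)
  have h2 := @pull_mem_alg0 Ω _ (pullback (PicF.XTproj f (Over.mk b)) (𝟙 (Over.mk b).left))
    (fibOver (PicF.XTproj f (Over.mk b)) (𝟙 (Over.mk b).left)) _ (pullback f b) ⟨pullback.snd f b⟩ p
    (pullback.lift_snd _ _ _) _ h1
  have h3 : p ≫ pullback.fst (PicF.XTproj f (Over.mk b)) (𝟙 (Over.mk b).left) = 𝟙 _ := pullback.lift_fst _ _ _
  have h4 : pull (p ≫ pullback.fst (PicF.XTproj f (Over.mk b)) (𝟙 (Over.mk b).left)) c = c := by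
    rw [h3]
    exact pull_id c
  rw [← pull_comp] at h2
  rw [← h4]
  exact h2

theorem pull_hat {Ω : Type u} [Field Ω] (b : Spec (CommRingCat.of Ω) ⟶ Spec (CommRingCat.of K)) {T' : Scheme.{u}}
    (q : T' ⟶ Spec (CommRingCat.of Ω)) (M : Pic (PicF.XT (pullback.snd f b) (Over.mk q)))
    (s : Spec (CommRingCat.of Ω) ⟶ T') (hs : s ≫ q = 𝟙 _)
    (hw : s ≫ (K247.BC.dn b (Over.mk q)).hom = (Over.mk b).hom) :
    pull (PicF.XTmap f (Over.homMk s hw : Over.mk b ⟶ K247.BC.dn b (Over.mk q))) (K247.BC.tr f b (Over.mk q) M) =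
      pull (sl (pullback.snd f b) q s hs) M := by
  have h1 : PicF.XTmap f (Over.homMk s hw : Over.mk b ⟶ K247.BC.dn b (Over.mk q)) =
      sl (pullback.snd f b) q s hs ≫ K247.BC.cmp f b (Over.mk q) := by
    apply XT_hom_ext
    · rw [XTmap_fst, Category.assoc, K247.BC.cmp_fst, ← Category.assoc, sl_fst, Category.id_comp]
      rfl
    · rw [XTmap_XTproj, Category.assoc, K247.BC.cmp_snd, sl_proj]
      rfl
  rw [h1, K247.BC.tr, ← pull_comp, Category.assoc, IsIso.hom_inv_id, Category.comp_id]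

/-- The point of a `Pic⁰` class lies in the connected component of the origin. -/
theorem mem_component (hP : AbDual.IsRelPicK Scheme.fppfPrecoverage f P φ) {T : Over (Spec (CommRingCat.of K))}
    (c : Pic (PicF.XT f T)) (hc : FibZero (PicF.XTproj f T) c) (t : T.left) :
    (φ T (toCl c)).left t ∈ connectedComponent
      ((φ (Over.mk (𝟙 (Spec (CommRingCat.of K)))) (toCl 1)).left (IsLocalRing.closedPoint K)) := by
  let Ω := AlgebraicClosure (T.left.residueField t)
  let σ : Spec (CommRingCat.of Ω) ⟶ T.left :=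
    Spec.map (CommRingCat.ofHom (algebraMap (T.left.residueField t) Ω)) ≫ T.left.fromSpecResidueField t
  have hσt : σ (IsLocalRing.closedPoint Ω) = t := by
    simp only [σ, Scheme.Hom.comp_apply]
    exact Scheme.fromSpecResidueField_apply _ _
  let b : Spec (CommRingCat.of Ω) ⟶ Spec (CommRingCat.of K) := σ ≫ T.hom
  let g : Over.mk b ⟶ T := Over.homMk σ
  have h1 := mem_alg0_of_fibZero b (pull (PicF.XTmap f g) c) (hc.pull _ _ (XTmap_XTproj f g))
  obtain ⟨T', q, hcon, -, -, M, t', t₀, ht', ht₀, e1, e0⟩ := (mem_alg0_iff' (pullback.snd f b) _).1 h1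
  let ψ := φ (K247.BC.dn b (Over.mk q)) (toCl (K247.BC.tr f b (Over.mk q) M))
  have hpt : ∀ (s : Spec (CommRingCat.of Ω) ⟶ T') (hs : s ≫ q = 𝟙 _) (d : Pic (PicF.XT f (Over.mk b))),
      pull (sl (pullback.snd f b) q s hs) M = d →
      ψ.left (s (IsLocalRing.closedPoint Ω)) = (φ (Over.mk b) (toCl d)).left (IsLocalRing.closedPoint Ω) := by
    intro s hs d hd
    have hw : s ≫ (K247.BC.dn b (Over.mk q)).hom = (Over.mk b).hom := by
      change s ≫ q ≫ b = b
      rw [← Category.assoc, hs, Category.id_comp]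
    have h2 := pull_hat b q M s hs hw
    rw [hd] at h2
    rw [← h2, nat hP]
    rfl
  have h3 := hpt t' ht' _ e1
  have h4 := hpt t₀ ht₀ _ e0
  rw [nat hP] at h3
  have h3' : ψ.left (t' (IsLocalRing.closedPoint Ω)) = (φ T (toCl c)).left t := by
    rw [h3]
    change (φ T (toCl c)).left (σ (IsLocalRing.closedPoint Ω)) = _
    rw [hσt]
  let g₀ : Over.mk b ⟶ Over.mk (𝟙 (Spec (CommRingCat.of K))) := Over.homMk b (Category.comp_id _)
  have h4' : ψ.left (t₀ (IsLocalRing.closedPoint Ω)) =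
      (φ (Over.mk (𝟙 (Spec (CommRingCat.of K)))) (toCl 1)).left (IsLocalRing.closedPoint K) := by
    rw [h4, ← pull_one' (PicF.XTmap f g₀), nat hP]
    change (φ (Over.mk (𝟙 (Spec (CommRingCat.of K)))) (toCl 1)).left (b (IsLocalRing.closedPoint Ω)) = _
    exact congrArg _ (Subsingleton.elim _ _)
  have hcon' : PreconnectedSpace (K247.BC.dn b (Over.mk q)).left := hcon.toPreconnectedSpace
  have hpre : _root_.IsPreconnected (Set.range ψ.left) := isPreconnected_range ψ.left.continuous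
  rw [← h3', ← h4']
  exact hpre.subset_connectedComponent ⟨_, rfl⟩ ⟨_, rfl⟩

end K925.Loc
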