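import Groth.Agent.Neron.K531.Clopen2
import Groth.Agent.PicF.K247.PicZeroIso
import Groth.Agent.PicF.K247.GrpZero

/-!
# Classes with values in a connected open subscheme of the Picard scheme

`f : X ⟶ Spec K`, `(P, φ)` represents `Pic_{X/K}` (fppf sheafified).

* `fibZero_of_phi_eq`: classes with the same point are simultaneously in `Pic⁰`;
* `fibZero_of_factor`: if `Q ⟶ P` is a monomorphism, `Q` connected and locally of finite type, through which the origin factors,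
  then all classes with values in `Q` are in `Pic⁰`;
* `mem_component`: the point of a `Pic⁰` class lies in the connected component of the origin.
-/

set_option autoImplicit false
universe u
open CategoryTheory CategoryTheory.Limits AlgebraicGeometry Opposite TopologicalSpace

namespace K925.Loc

open Groth.Agent Groth.Agent.Grpsch Groth.Agent.Grpsch.PicGrp Groth.Agent.Fga.RigGrp K530.PicZero K732.Cov

section General

variable {X S : Scheme.{u}} {f : X ⟶ S} {P : Over S} {φ : ∀ T : Over S, PicF.Cl (PicF.XT f T) → (T ⟶ P)}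

theorem nat (hP : AbDual.IsRelPicK Scheme.fppfPrecoverage f P φ) {T T' : Over S} (g : T' ⟶ T)
    (c : Pic (PicF.XT f T)) : φ T' (toCl (pull (PicF.XTmap f g) c)) = g ≫ φ T (toCl c) := by
  rw [toCl_pull, hP.natural _ _ _ _ (isInvertibleCl_toCl _)]

theorem exists_cov_eq (hP : AbDual.IsRelPicK Scheme.fppfPrecoverage f P φ) {T : Over S} {c c' : Pic (PicF.XT f T)}
    (h : φ T (toCl c) = φ T (toCl c')) :
    ∃ 𝒰 : FCov T, ∀ i, pull (PicF.XTmap f (𝒰.j i)) c = pull (PicF.XTmap f (𝒰.j i)) c' := by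
  obtain ⟨𝒰, hU⟩ := K247.PicZeroIso.exists_cov_eq hP (isInvertibleCl_toCl c) (isInvertibleCl_toCl c') h
  refine ⟨𝒰, fun i => toCl_injective ?_⟩
  rw [toCl_pull, toCl_pull]
  exact hU i

/-- Classes with the same point are simultaneously in `Pic⁰`. -/
theorem fibZero_of_phi_eq (hP : AbDual.IsRelPicK Scheme.fppfPrecoverage f P φ) {T : Over S}
    {c c' : Pic (PicF.XT f T)} (h : φ T (toCl c) = φ T (toCl c')) (hc : FibZero (PicF.XTproj f T) c) :
    FibZero (PicF.XTproj f T) c' := by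
  obtain ⟨𝒰, hU⟩ := exists_cov_eq hP h
  refine K247.GrpZero.fibZero_of_cov f 𝒰 c' fun i => ?_
  rw [← hU i]
  exact hc.pull _ _ (XTmap_XTproj f _)

theorem pull_one' {Y Z : Scheme.{u}} (g : Y ⟶ Z) : pull g (1 : Pic Z) = 1 := map_one _

end General

section Field

variable {K : Type u} [Field K] {X : Scheme.{u}} {f : X ⟶ Spec (CommRingCat.of K)}
  {P : Over (Spec (CommRingCat.of K))}
  {φ : ∀ T : Over (Spec (CommRingCat.of K)), PicF.Cl (PicF.XT f T) → (T ⟶ P)}

/-- Nonempty schemes locally of finite type over a field have algebraic points. -/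
theorem exists_algPt {W : Scheme.{u}} (w : W ⟶ Spec (CommRingCat.of K)) [LocallyOfFiniteType w] [Nonempty W] :
    ∃ σ : Spec (CommRingCat.of (AlgebraicClosure K)) ⟶ W, σ ≫ w = K531.Defs.sp K (AlgebraicClosure K) := by
  let b := K531.Defs.sp K (AlgebraicClosure K)
  have hne : Nonempty ↑(pullback w b) := by
    obtain ⟨x⟩ := (inferInstance : Nonempty W)
    obtain ⟨z, -, -⟩ := Scheme.Pullback.exists_preimage_pullback (f := w) (g := b) x
      (IsLocalRing.closedPoint (AlgebraicClosure K)) (Subsingleton.elim _ _)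
    exact ⟨z⟩
  obtain ⟨σ, hσ⟩ := K247.GrpZero.exists_point (pullback.snd w b)
  refine ⟨σ ≫ pullback.fst w b, ?_⟩
  rw [Category.assoc, pullback.condition, reassoc_of% hσ]

/-- The key step: a chart point over the image of a `Pic⁰` family lies in the clopen subset. -/
theorem mem_of_eq (hP : AbDual.IsRelPicK Scheme.fppfPrecoverage f P φ) {Q : Over (Spec (CommRingCat.of K))}
    (ι : Q ⟶ P) {V : Over (Spec (CommRingCat.of K))} (j : V ⟶ Q) [LocallyOfFiniteType j.left]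
    (c : Pic (PicF.XT f V)) (hc : φ V (toCl c) = j ≫ ι) (A : V.left.Opens) (hA : IsClosed (A : Set V.left))
    (hA3 : ∀ (σ : Spec (CommRingCat.of (AlgebraicClosure K)) ⟶ V.left),
      σ ≫ V.hom = K531.Defs.sp K (AlgebraicClosure K) →
      FibZero (PicF.XTproj f (Over.mk (σ ≫ V.hom)))
        (pull (PicF.XTmap f (Over.homMk σ : Over.mk (σ ≫ V.hom) ⟶ V)) c) → ∀ p, σ p ∈ A)
    {R : Over (Spec (CommRingCat.of K))} [LocallyOfFiniteType R.hom] (r : R ⟶ Q) (d : Pic (PicF.XT f R))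
    (hd : φ R (toCl d) = r ≫ ι) (hd0 : FibZero (PicF.XTproj f R) d) (v : V.left) (x : R.left)
    (hvx : j.left v = r.left x) : v ∈ A := by
  by_contra hv
  let B : V.left.Opens := ⟨(A : Set V.left)ᶜ, hA.isOpen_compl⟩
  have hvB : v ∈ B := hv
  let m : (B : Scheme.{u}) ⟶ Q.left := B.ι ≫ j.left
  obtain ⟨z, hz1, hz2⟩ := Scheme.Pullback.exists_preimage_pullback (f := m) (g := r.left) ⟨v, hvB⟩ x hvx
  have hne : Nonempty ↑(pullback m r.left) := ⟨z⟩
  have h1 : LocallyOfFiniteType (pullback.snd m r.left ≫ R.hom) := inferInstance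
  obtain ⟨σ, hσ⟩ := exists_algPt (pullback.snd m r.left ≫ R.hom)
  let β : Spec (CommRingCat.of (AlgebraicClosure K)) ⟶ V.left := σ ≫ pullback.fst m r.left ≫ B.ι
  let γ : Spec (CommRingCat.of (AlgebraicClosure K)) ⟶ R.left := σ ≫ pullback.snd m r.left
  have hβγ : β ≫ j.left = γ ≫ r.left := by
    simp only [β, γ, Category.assoc]
    exact congrArg (fun k => σ ≫ k) pullback.condition
  have hβ : β ≫ V.hom = K531.Defs.sp K (AlgebraicClosure K) := by
    rw [← hσ, ← Over.w j, reassoc_of% hβγ, Over.w r, Category.assoc]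
  have hw : γ ≫ R.hom = β ≫ V.hom := by
    rw [hβ, ← hσ, Category.assoc]
  let γ' : Over.mk (β ≫ V.hom) ⟶ R := Over.homMk γ hw
  let β' : Over.mk (β ≫ V.hom) ⟶ V := Over.homMk β
  have h2 : β' ≫ j = γ' ≫ r := Over.OverMorphism.ext hβγ
  have h3 : φ _ (toCl (pull (PicF.XTmap f γ') d)) = φ _ (toCl (pull (PicF.XTmap f β') c)) := by
    rw [nat hP, nat hP, hc, hd, ← Category.assoc, ← h2]
    exact Category.assoc _ _ _
  have h4 : FibZero (PicF.XTproj f (Over.mk (β ≫ V.hom))) (pull (PicF.XTmap f β') c) :=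
    fibZero_of_phi_eq hP h3 (hd0.pull _ _ (XTmap_XTproj f _))
  have h5 := hA3 β hβ h4 (IsLocalRing.closedPoint _)
  have h6 : β (IsLocalRing.closedPoint _) ∈ B := by
    change (σ ≫ pullback.fst m r.left ≫ B.ι) _ ∈ B
    rw [← Category.assoc, Scheme.Hom.comp_apply]
    exact ((σ ≫ pullback.fst m r.left) (IsLocalRing.closedPoint _)).2
  exact h6 h5

/-- All classes with values in a connected subscheme through the origin are in `Pic⁰`. -/
theorem fibZero_of_factor (hP : AbDual.IsRelPicK Scheme.fppfPrecoverage f P φ)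
    {Q : Over (Spec (CommRingCat.of K))} [LocallyOfFiniteType Q.hom] [ConnectedSpace Q.left] (ι : Q ⟶ P)
    (e₀ : Over.mk (𝟙 (Spec (CommRingCat.of K))) ⟶ Q) (he₀ : e₀ ≫ ι = φ _ (toCl 1))
    {T : Over (Spec (CommRingCat.of K))} (c : Pic (PicF.XT f T)) (g : T ⟶ Q) (hg : g ≫ ι = φ T (toCl c)) :
    FibZero (PicF.XTproj f T) c := by
  classical
  obtain ⟨𝒰₀, hU₀⟩ := K247.PicZeroIso.exists_cov_cl hP ι
  choose c₀ hc₀ hcφ₀ using hU₀
  choose c₁ hc₁ using fun i => exists_toCl (hc₀ i)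
  -- affine refinement
  have haff : ∀ (i : 𝒰₀.ι) (v : (𝒰₀.V i).left), ∃ U : (𝒰₀.V i).left.Opens, IsAffineOpen U ∧ v ∈ U := fun i v => by
    obtain ⟨U, hU, hv, -⟩ := exists_isAffineOpen_mem_and_subset (X := (𝒰₀.V i).left) (x := v) (U := ⊤) trivial
    exact ⟨U, hU, hv⟩
  choose AU hAU hmem using haff
  let 𝒰 : FCov Q := bind 𝒰₀ (fun i => zar (AU i) (hmem i))
  let cc : ∀ i, Pic (PicF.XT f (𝒰.V i)) := fun i => pull (PicF.XTmap f ((zar (AU i.1) (hmem i.1)).j i.2)) (c₁ i.1)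
  have hcc : ∀ i, φ (𝒰.V i) (toCl (cc i)) = 𝒰.j i ≫ ι := fun i => by
    have h1 : φ (𝒰.V i) (toCl (cc i)) = (zar (AU i.1) (hmem i.1)).j i.2 ≫ φ (𝒰₀.V i.1) (toCl (c₁ i.1)) := nat hP _ _
    rw [h1, hc₁, hcφ₀]
    exact (Category.assoc _ _ _).symm
  have hqc : ∀ i, QuasiCompact (𝒰.V i).hom := fun i => by
    have h1 : IsAffine (𝒰.V i).left := hAU i.1 i.2
    exact (inferInstance : QuasiCompact (𝒰.V i).hom)
  have hlft : ∀ i, LocallyOfFiniteType (𝒰.j i).left := fun i => inferInstance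
  have hlft' : ∀ i, LocallyOfFiniteType (𝒰.V i).hom := fun i => by
    rw [← Over.w (𝒰.j i)]
    infer_instance
  have hcl : ∀ i, ∃ U : (𝒰.V i).left.Opens, IsClosed (U : Set (𝒰.V i).left) ∧
      FibZero (PicF.XTproj f (Over.mk (U.ι ≫ (𝒰.V i).hom)))
        (pull (PicF.XTmap f (Over.homMk U.ι : Over.mk (U.ι ≫ (𝒰.V i).hom) ⟶ 𝒰.V i)) (cc i)) ∧
      ∀ (σ : Spec (CommRingCat.of (AlgebraicClosure K)) ⟶ (𝒰.V i).left),
        σ ≫ (𝒰.V i).hom = K531.Defs.sp K (AlgebraicClosure K) → FibZero (PicF.XTproj f (Over.mk (σ ≫ (𝒰.V i).hom)))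
          (pull (PicF.XTmap f (Over.homMk σ : Over.mk (σ ≫ (𝒰.V i).hom) ⟶ 𝒰.V i)) (cc i)) → ∀ p, σ p ∈ U := fun i => by
    have := hqc i
    have := hlft' i
    obtain ⟨U, h1, h2, h3⟩ := K531.Clopen.exists_clopen f (𝒰.V i).hom (cc i)
    exact ⟨U, h1, h2, fun σ hσ hz => h3 σ hσ hz⟩
  choose A hA1 hA2 hA3 using hcl
  -- the key step for the charts
  have key : ∀ (i l : 𝒰.ι) (v : (𝒰.V i).left) (a : (𝒰.V l).left), a ∈ A l → (𝒰.j i).left v = (𝒰.j l).left a →
      v ∈ A i := fun i l v a ha h => by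
    have := hlft i
    have := hlft' l
    have hR : LocallyOfFiniteType (Over.mk ((A l).ι ≫ (𝒰.V l).hom)).hom :=
      inferInstanceAs (LocallyOfFiniteType ((A l).ι ≫ (𝒰.V l).hom))
    refine mem_of_eq hP ι (𝒰.j i) (cc i) (hcc i) (A i) (hA1 i) (hA3 i)
      (R := Over.mk ((A l).ι ≫ (𝒰.V l).hom)) ((Over.homMk (A l).ι : Over.mk ((A l).ι ≫ (𝒰.V l).hom) ⟶ 𝒰.V l) ≫ 𝒰.j l)
      (pull (PicF.XTmap f (Over.homMk (A l).ι : Over.mk ((A l).ι ≫ (𝒰.V l).hom) ⟶ 𝒰.V l)) (cc l)) ?_ (hA2 l) v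
      ⟨a, ha⟩ ?_
    · rw [nat hP, hcc, Category.assoc]
    · exact h
  have key0 : ∀ (i : 𝒰.ι) (v : (𝒰.V i).left) (x : Spec (CommRingCat.of K)), (𝒰.j i).left v = e₀.left x →
      v ∈ A i := fun i v x h => by
    have := hlft i
    have hR : LocallyOfFiniteType (Over.mk (𝟙 (Spec (CommRingCat.of K)))).hom :=
      inferInstanceAs (LocallyOfFiniteType (𝟙 (Spec (CommRingCat.of K))))
    refine mem_of_eq hP ι (𝒰.j i) (cc i) (hcc i) (A i) (hA1 i) (hA3 i)
      (R := Over.mk (𝟙 (Spec (CommRingCat.of K)))) e₀ 1 he₀.symm (FibZero.one _) v x h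
  let Z : Set Q.left := {z | ∃ i, ∃ a ∈ A i, (𝒰.j i).left a = z}
  have hopen : ∀ i, IsOpenMap (𝒰.j i).left := fun i => (𝒰.j i).left.isOpenMap
  have hZo : IsOpen Z := by
    have : Z = ⋃ i, (𝒰.j i).left '' (A i : Set (𝒰.V i).left) := by
      ext z
      simp only [Z, Set.mem_ofPred_eq, Set.mem_iUnion, Set.mem_image, SetLike.mem_coe]
    rw [this]
    exact isOpen_iUnion fun i => hopen i _ (A i).2
  have hZc : IsOpen Zᶜ := by
    have : Zᶜ = ⋃ i, (𝒰.j i).left '' ((A i : Set (𝒰.V i).left)ᶜ) := by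
      ext z
      simp only [Z, Set.mem_compl_iff, Set.mem_ofPred_eq, Set.mem_iUnion, Set.mem_image, SetLike.mem_coe]
      constructor
      · intro hz
        obtain ⟨i, y, hy⟩ := 𝒰.covers z
        exact ⟨i, y, fun hyA => hz ⟨i, y, hyA, hy⟩, hy⟩
      · rintro ⟨i, y, hyA, hy⟩ ⟨l, a, ha, hla⟩
        exact hyA (key i l y a ha (hy.trans hla.symm))
    rw [this]
    exact isOpen_iUnion fun i => hopen i _ (hA1 i).isOpen_compl
  have hZne : Z.Nonempty := by
    obtain ⟨i, y, hy⟩ := 𝒰.covers (e₀.left (IsLocalRing.closedPoint K))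
    exact ⟨_, i, y, key0 i y _ hy, hy⟩
  have hZ : Z = Set.univ := IsClopen.eq_univ ⟨isOpen_compl_iff.1 hZc, hZo⟩ hZne
  have hall : ∀ i, FibZero (PicF.XTproj f (𝒰.V i)) (cc i) := fun i => by
    have htop : ∀ v : (𝒰.V i).left, v ∈ A i := fun v => by
      have : (𝒰.j i).left v ∈ Z := by rw [hZ]; trivial
      obtain ⟨l, a, ha, hla⟩ := this
      exact key i l v a ha hla.symm
    let a : Over.mk ((A i).ι ≫ (𝒰.V i).hom) ⟶ 𝒰.V i := Over.homMk (A i).ι
    have hs : Surjective a.left := ⟨fun v => ⟨⟨v, htop v⟩, rfl⟩⟩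
    have hfl : Flat a.left := inferInstanceAs (Flat (A i).ι)
    have hlf : LocallyOfFinitePresentation a.left := inferInstanceAs (LocallyOfFinitePresentation (A i).ι)
    exact K247.GrpZero.fibZero_of_cov f (single a) (cc i) fun _ => hA2 i
  refine K247.GrpZero.fibZero_of_cov f (K732.Cov.pull 𝒰 g) c fun i => ?_
  refine fibZero_of_phi_eq hP (c := Grpsch.PicGrp.pull (PicF.XTmap f (pullSnd 𝒰 g i)) (cc i)) ?_
    ((hall i).pull _ _ (XTmap_XTproj f _))
  rw [nat hP, nat hP, hcc, ← hg, ← Category.assoc, ← pull_w, Category.assoc]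

end Field

end K925.Loc
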