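import Groth.Agent.Neron.K925.Comp
import Groth.Agent.Neron.K488.PicZU
import Groth.Agent.AbVar.K507.PicPts
import Groth.Agent.S4289
import Groth.Agent.S11755
import Groth.Agent.Neron.K490.PicSm

/-!
# `Pic⁰` of a proper curve over a field

For `C` proper of dimension `≤ 1` over a field `K`, a scheme `J` representing the fppf sheafification of `Pic⁰_{C/K}` is smooth,
separated, quasi-compact and geometrically irreducible over `K`; it is isomorphic to the identity component of the Picard scheme.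

* `exists_iso_component`: `J` is isomorphic to the identity component of any `P` representing `Pic_{C/K}` (any separated `C` of
  finite type);
* `picZero_props`.
-/

set_option autoImplicit false
universe u
open CategoryTheory CategoryTheory.Limits AlgebraicGeometry Opposite TopologicalSpace

namespace K925.PicZeroProps

open Groth.Agent Groth.Agent.Grpsch Groth.Agent.Grpsch.PicGrp Groth.Agent.Fga.RigGrp K530.PicZero K925.Loc

variable {K : Type u} [Field K] {X : Scheme.{u}} {f : X ⟶ Spec (CommRingCat.of K)}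
  {P : Over (Spec (CommRingCat.of K))}
  {φ : ∀ T : Over (Spec (CommRingCat.of K)), PicF.Cl (PicF.XT f T) → (T ⟶ P)}

section rep

open scoped Classical in
/-- The maps to a subscheme through the origin. -/
noncomputable def phiQ (φ : ∀ T : Over (Spec (CommRingCat.of K)), PicF.Cl (PicF.XT f T) → (T ⟶ P))
    {Q : Over (Spec (CommRingCat.of K))} (ι : Q ⟶ P) (e₀ : Over.mk (𝟙 (Spec (CommRingCat.of K))) ⟶ Q)
    (T : Over (Spec (CommRingCat.of K))) (c : PicF.Cl (PicF.XT f T)) : T ⟶ Q :=
  if h : ∃ g : T ⟶ Q, g ≫ ι = φ T c then h.choose else Over.homMk T.hom (Category.comp_id _) ≫ e₀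

theorem phiQ_comp {Q : Over (Spec (CommRingCat.of K))} (ι : Q ⟶ P)
    (e₀ : Over.mk (𝟙 (Spec (CommRingCat.of K))) ⟶ Q)
    (T : Over (Spec (CommRingCat.of K))) (c : PicF.Cl (PicF.XT f T)) (h : ∃ g : T ⟶ Q, g ≫ ι = φ T c) :
    phiQ φ ι e₀ T c ≫ ι = φ T c := by
  rw [phiQ, dif_pos h]
  exact h.choose_spec

end rep

/-- The open subscheme on the connected component of the origin represents `Pic⁰`. -/
theorem isRelPicZeroK (hP : AbDual.IsRelPicK Scheme.fppfPrecoverage f P φ) [LocallyOfFiniteType P.hom]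
    (U : P.left.Opens) (hU : (U : Set P.left) = connectedComponent
      ((φ (Over.mk (𝟙 (Spec (CommRingCat.of K)))) (toCl 1)).left (IsLocalRing.closedPoint K))) :
    ∃ φ', AbDual.IsRelPicZeroK Scheme.fppfPrecoverage f (Over.mk (U.ι ≫ P.hom)) φ' := by
  let Q : Over (Spec (CommRingCat.of K)) := Over.mk (U.ι ≫ P.hom)
  let ι : Q ⟶ P := Over.homMk U.ι
  have hm : Mono ι := by
    have : Mono ι.left := inferInstanceAs (Mono U.ι)
    exact Over.mono_of_mono_left ι
  have hlft : LocallyOfFiniteType Q.hom := inferInstanceAs (LocallyOfFiniteType (U.ι ≫ P.hom))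
  have hcon : ConnectedSpace Q.left := by
    have h1 : _root_.IsConnected (U : Set P.left) := by
      rw [hU]
      exact isConnected_connectedComponent
    exact isConnected_iff_connectedSpace.1 h1
  have hlift : ∀ {T : Over (Spec (CommRingCat.of K))} (g : T ⟶ P), (∀ t, g.left t ∈ U) → ∃ g' : T ⟶ Q, g' ≫ ι = g := by
    intro T g hg
    have hr : Set.range g.left ⊆ Set.range U.ι := by
      rw [Scheme.Opens.range_ι]
      rintro _ ⟨t, rfl⟩
      exact hg t
    refine ⟨Over.homMk (IsOpenImmersion.lift U.ι g.left hr) ?_, ?_⟩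
    · change IsOpenImmersion.lift U.ι g.left hr ≫ U.ι ≫ P.hom = T.hom
      rw [IsOpenImmersion.lift_fac_assoc, Over.w]
    · exact Over.OverMorphism.ext (IsOpenImmersion.lift_fac _ _ _)
  obtain ⟨e₀, he₀⟩ := hlift (φ (Over.mk (𝟙 (Spec (CommRingCat.of K)))) (toCl 1)) (fun t => by
    have h1 : t = IsLocalRing.closedPoint K := Subsingleton.elim (α := Spec (CommRingCat.of K)) _ _
    rw [h1, ← SetLike.mem_coe, hU]
    exact mem_connectedComponent)
  have key : ∀ {T : Over (Spec (CommRingCat.of K))} (c : PicF.Cl (PicF.XT f T)), PicF.IsInvertibleCl c →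
      (AbDual.IsPicZeroCl f T c ↔ ∃ g : T ⟶ Q, g ≫ ι = φ T c) := by
    intro T c hc
    obtain ⟨c, rfl⟩ := exists_toCl hc
    rw [isPicZeroCl_toCl_iff]
    constructor
    · intro h
      refine hlift _ fun t => ?_
      rw [← SetLike.mem_coe, hU]
      exact mem_component hP c h t
    · rintro ⟨g, hg⟩
      exact fibZero_of_factor hP ι e₀ he₀ c g hg
  refine ⟨phiQ φ ι e₀, ?_, ?_, ?_⟩
  · intro T T' g c hc
    have hi := K247.PicZeroIso.isInvertibleCl_of_isPicZeroCl hc
    have hc' := isPicZeroCl_pullCl f g hc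
    rw [← cancel_mono ι, Category.assoc, phiQ_comp ι e₀ T c ((key c hi).1 hc),
      phiQ_comp ι e₀ T' _ ((key _ (K247.PicZeroIso.isInvertibleCl_of_isPicZeroCl hc')).1 hc'), hP.natural _ _ _ _ hi]
  · intro T g
    obtain ⟨R, hR, h⟩ := hP.locallySurjective T (g ≫ ι)
    refine ⟨R, hR, fun V u hu => ?_⟩
    obtain ⟨c, hc, hcφ⟩ := h u hu
    have h1 : ∃ g' : AbDual.ovr T u ⟶ Q, g' ≫ ι = φ _ c := ⟨AbDual.ovrHom T u ≫ g, by rw [hcφ, Category.assoc]⟩
    refine ⟨c, (key c hc).2 h1, ?_⟩
    rw [← cancel_mono ι, phiQ_comp ι e₀ _ c h1, hcφ, Category.assoc]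
  · intro T c c' hc hc' h
    have hi := K247.PicZeroIso.isInvertibleCl_of_isPicZeroCl hc
    have hi' := K247.PicZeroIso.isInvertibleCl_of_isPicZeroCl hc'
    refine hP.locallyInjective T c c' hi hi' ?_
    rw [← phiQ_comp ι e₀ T c ((key c hi).1 hc), ← phiQ_comp ι e₀ T c' ((key c' hi').1 hc'), h]

/-- A scheme representing `Pic⁰` is isomorphic to the identity component of the Picard scheme. -/
theorem exists_iso_component (hP : AbDual.IsRelPicK Scheme.fppfPrecoverage f P φ) [LocallyOfFiniteType P.hom]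
    (U : P.left.Opens) (hU : (U : Set P.left) = connectedComponent
      ((φ (Over.mk (𝟙 (Spec (CommRingCat.of K)))) (toCl 1)).left (IsLocalRing.closedPoint K)))
    {J : Over (Spec (CommRingCat.of K))} {ψ : ∀ T : Over (Spec (CommRingCat.of K)), PicF.Cl (PicF.XT f T) → (T ⟶ J)}
    (hJ : AbDual.IsRelPicZeroK Scheme.fppfPrecoverage f J ψ) : Nonempty (J ≅ Over.mk (U.ι ≫ P.hom)) := by
  obtain ⟨φ', h'⟩ := isRelPicZeroK hP U hU
  obtain ⟨e, -⟩ := K488.PicZU.exists_iso hJ h'
  exact ⟨e⟩

/-- **(JS)** -/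
theorem picZero_props {K : Type u} [Field K] {C : Scheme.{u}} (g : C ⟶ Spec (CommRingCat.of K)) [IsProper g]
    (hdimC : topologicalKrullDim C ≤ 1) (J : Over (Spec (CommRingCat.of K)))
    (φ : ∀ T : Over (Spec (CommRingCat.of K)), PicF.Cl (PicF.XT g T) → (T ⟶ J))
    (hJ : AbDual.IsRelPicZeroK Scheme.fppfPrecoverage g J φ) :
    Smooth J.hom ∧ IsSeparated J.hom ∧ QuasiCompact J.hom ∧ GeometricallyIrreducible J.hom := by
  let _ : C.Over (Spec (CommRingCat.of K)) := ⟨g⟩
  have hpr : IsProper (C ↘ Spec (CommRingCat.of K)) := inferInstanceAs (IsProper g)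
  obtain ⟨P, hrep, hsep, hlft⟩ := Groth.Agent.S4289.result K C
  have hrep' : PicRel.RepresentedBy g P := hrep
  have hsm : Smooth P.hom := K490.PicSm.smooth_of_dim_le_one (Field.toIsField K) g hdimC P hrep'
  obtain ⟨ψ, hψ⟩ := hrep'
  obtain ⟨-, U, hU, hqc, hgi⟩ := Groth.Agent.S11755.result K g P ψ hψ
  obtain ⟨e⟩ := exists_iso_component (K507.PicPts.isRelPicK hψ) U hU hJ
  have he : e.hom.left ≫ (U.ι ≫ P.hom) = J.hom := Over.w e.hom
  have hiso : IsIso e.hom.left := inferInstance
  rw [← he]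
  refine ⟨inferInstance, inferInstance, inferInstance, ?_⟩
  exact (MorphismProperty.cancel_left_of_respectsIso @GeometricallyIrreducible e.hom.left (U.ι ≫ P.hom)).2 hgi

end K925.PicZeroProps
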